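import Cfsg.Agent.Lib.Goldschmidt53.Facts.Local
import Cfsg.Agent.Lib.Thompson3Prime33.SzFacts

/-!
# The local data of a Suzuki group

Owner: helper72.
-/

set_option autoImplicit false
set_option linter.style.haveILetI false

universe u

namespace Cfsg.Agent.Lib.Goldschmidt53

open Subgroup

variable {L : Type u} [Group L] [Finite L]

theorem suzuki_local (hL : Cfsg.Lie.IsoSuzuki L) (P : Sylow 2 L) :
    BenderLocal L (P : Subgroup L) := by
  haveI : Fact (Nat.Prime 2) := ⟨Nat.prime_two⟩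
  obtain ⟨q, Z, τ, h⟩ := Thompson3Prime33.szFacts L hL P
  obtain ⟨m, hm, hq⟩ := h.q_eq
  have hq8 : 8 ≤ q := by
    rw [hq]
    calc (8 : ℕ) = 2 ^ 3 := rfl
      _ ≤ 2 ^ (2 * m + 1) := Nat.pow_le_pow_right two_pos (by omega)
  have hZ2 : ∀ z ∈ Z, z * z = 1 := fun z hz => (h.sq_iff z (h.Z_le hz)).2 hz
  refine ⟨fun x hx h2 y hy => h.central x ((h.sq_iff x hx).1 h2) y hy,
    ⟨Z, h.Z_le, hZ2, by rw [h.card_Z]; omega⟩, ⟨τ, h.τ_P, ?_, fun x hx h2 h1 y hy h2' h1' =>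
      h.τ_trans x ((h.sq_iff x hx).1 h2) y ((h.sq_iff y hy).1 h2') h1 h1'⟩,
    fun z hz h2 h1 => ?_, fun z hz h2 h1 => ?_, ?_, fun φ hfix _ => ?_⟩
  · rw [h.τ_order, hq, Nat.odd_iff]
    have : 2 ^ (2 * m + 1) = 2 * 2 ^ (2 * m) := by rw [pow_succ, mul_comm]
    have := Nat.two_pow_pos (2 * m)
    omega
  · rw [h.centralizer_eq z ((h.sq_iff z hz).1 h2) h1]
    haveI : Group.IsNilpotent ↥(P : Subgroup L) := P.2.isNilpotent
    infer_instance
  · rw [h.centralizer_eq z ((h.sq_iff z hz).1 h2) h1]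
    exact le_normalizer
  · obtain ⟨z, hz, hz1⟩ : ∃ z ∈ Z, z ≠ 1 := by
      refine Exists.elim ((Subgroup.ne_bot_iff_exists_ne_one (H := Z)).1 fun hb => ?_) fun a ha =>
        ⟨a, a.2, fun e => ha (Subtype.ext e)⟩
      have := h.card_Z
      rw [hb, Subgroup.card_bot] at this
      omega
    refine fun x hx => (h.centralizer_eq z hz hz1) ▸ ?_
    exact mem_centralizer_singleton_iff.2 (mem_centralizer_iff.1 hx z (h.Z_le hz)).symm
  · exact h.aut_fix φ fun z hz => hfix z (h.Z_le hz) (hZ2 z hz)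

end Cfsg.Agent.Lib.Goldschmidt53
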