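import Cfsg.Agent.Lib.Goldschmidt53.Facts.Local
import Cfsg.Agent.Lib.Inter3308.Unitary

/-!
# The local data of `PSU(3, 2ⁿ)`

`PSU(3, q)` acts on `q³ + 1` points; the translations fix exactly `∞`, the stabiliser of `∞` and of
the origin is diagonal.  An automorphism fixing `Ω₁(P)` and `P / Ω₁(P)` pointwise is inner by `P`.

Owner: helper72.
-/

set_option autoImplicit false
set_option linter.style.haveILetI false
set_option linter.unusedSectionVars false

namespace Cfsg.Agent.Lib.Goldschmidt53.UnitaryModel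

open Subgroup Matrix Cfsg.Agent.Lib.Unitary Cfsg.Agent.Lib.U3Sylow Cfsg.Agent.Lib.Inter3308
  Cfsg.Agent.Lib.RankOneIdent.PSU3

variable {F : Type} [Field F] [Fintype F] {n : ℕ} (hF : Fintype.card F = (2 ^ n) ^ 2)
  {x : F} (hx : x + x ^ 2 ^ n = 1)

local notation "M₃" => Cfsg.PSU 3 F (2 ^ n)

/-- The action of `PSU₃(q)` on points. -/
noncomputable def phi : M₃ →* Equiv.Perm (Option (Pairs F (2 ^ n))) :=
  (Model.pHom hF hx).range.subtype.comp (Model.rangeEquiv hF hx).symm.toMonoidHom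

theorem phi_inj : Function.Injective (phi hF hx) :=
  fun _ _ h => (Model.rangeEquiv hF hx).symm.injective (Subtype.ext h)

theorem phi_mk (g : Cfsg.SU 3 F (2 ^ n)) :
    phi hF hx (QuotientGroup.mk' (center (Cfsg.SU 3 F (2 ^ n))) g) = Model.pHom hF hx g := by
  have h : Model.rangeEquiv hF hx ((Model.pHom hF hx).rangeRestrict g) =
      QuotientGroup.mk' (center (Cfsg.SU 3 F (2 ^ n))) g := by
    rw [Model.rangeEquiv, MulEquiv.trans_apply]
    rw [show (QuotientGroup.quotientKerEquivRange (Model.pHom hF hx)).symm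
      ((Model.pHom hF hx).rangeRestrict g) = QuotientGroup.mk g from
        (MulEquiv.symm_apply_eq _).2 rfl]
    rfl
  rw [← h, phi, MonoidHom.comp_apply, MulEquiv.coe_toMonoidHom, MulEquiv.symm_apply_apply]
  rfl

theorem perm_inv_apply {α : Type*} (f : Equiv.Perm α) (a : α) : f⁻¹ (f a) = a := f.symm_apply_apply a

theorem tU_none (p : Pairs F (2 ^ n)) : phi hF hx (tU hF hx p) none = none := by
  rw [tU, phi_mk, Model.pHom_apply]
  exact Model.act_tr_none hF hx p

theorem tU_some (p r : Pairs F (2 ^ n)) :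
    phi hF hx (tU hF hx p) (some r) = some (pm hF p r) := by
  rw [tU, phi_mk, Model.pHom_apply]
  exact Model.act_tr_some hF hx p r _ rfl

theorem pm_pzero (p : Pairs F (2 ^ n)) : pm hF p (pzero hF) = p :=
  Subtype.ext (by simp [pm, pzero])

include hF in
theorem self_add_zero (a : F) : a + a = 0 := by
  linear_combination a * two_eq_zero hF

/-- A non-trivial translation fixes only `∞`. -/
theorem eq_none_of_fix {p : Pairs F (2 ^ n)} (hp : p ≠ pzero hF) {o : Option (Pairs F (2 ^ n))}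
    (h : phi hF hx (tU hF hx p) o = o) : o = none := by
  rcases o with _ | r
  · rfl
  rw [tU_some] at h
  have h1 := congrArg (fun s : Pairs F (2 ^ n) => s.1.1) (Option.some.inj h)
  have h2 := congrArg (fun s : Pairs F (2 ^ n) => s.1.2) (Option.some.inj h)
  simp only [pm] at h1 h2
  have ha : p.1.1 = 0 := by linear_combination h1
  rw [ha, zero_pow_q hF, zero_mul, add_zero] at h2
  exact absurd (Subtype.ext (Prod.ext ha (by show p.1.2 = 0; linear_combination h2))) hp

theorem exists_smul_none (o : Option (Pairs F (2 ^ n))) :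
    ∃ g : M₃, phi hF hx g none = o := by
  obtain ⟨g, -, hg⟩ := Model.exists_gen_none hF hx o
  exact ⟨QuotientGroup.mk' _ g, by rw [phi_mk, Model.pHom_apply, hg]⟩

/-- A pair `(0, b)`, `b` in the fixed field. -/
def cpair {b : F} (hb : b ^ 2 ^ n = b) : Pairs F (2 ^ n) :=
  ⟨(0, b), by show b + b ^ 2 ^ n = 0 * 0 ^ 2 ^ n; rw [hb, zero_mul, self_add_zero hF]⟩

include hF in
theorem snd_fixed {p : Pairs F (2 ^ n)} (h : p.1.1 = 0) : p.1.2 ^ 2 ^ n = p.1.2 := by
  have h0 := p.2
  rw [h, zero_mul] at h0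
  exact (trace_zero_iff hF).1 h0

/-- The stabiliser of `∞` and the origin is diagonal. -/
theorem stab_two {g : M₃} (hn : phi hF hx g none = none)
    (h0 : phi hF hx g (some (pzero hF)) = some (pzero hF)) :
    ∃ κ ν : F, κ ≠ 0 ∧ ν = κ * κ ^ 2 ^ n ∧ ∀ p : Pairs F (2 ^ n), ∃ r : Pairs F (2 ^ n),
      r.1 = (κ * p.1.1, ν * p.1.2) ∧ phi hF hx g (some p) = some r := by
  obtain ⟨g, rfl⟩ := QuotientGroup.mk'_surjective _ g
  rw [phi_mk, Model.pHom_apply] at hn h0
  obtain ⟨α, hα0, hα⟩ := (Model.exists_img hF hx g none).choose_spec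
  obtain ⟨γ, hγ0, hγ⟩ := (Model.exists_img hF hx g (some (pzero hF))).choose_spec
  change Model.cmat x g *ᵥ Model.cvec none = α • Model.cvec (Model.act hF hx g none) at hα
  change Model.cmat x g *ᵥ Model.cvec (some (pzero hF)) =
    γ • Model.cvec (Model.act hF hx g (some (pzero hF))) at hγ
  rw [hn] at hα
  rw [h0] at hγ
  set M := Model.cmat x g with hM
  set u := M *ᵥ ![0, 1, 0] with hu
  have hh1 := Model.hyp_cmat hF hx g ![0, 1, 0] (Model.cvec (none : Option (Pairs F (2 ^ n))))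
  have hh2 := Model.hyp_cmat hF hx g ![0, 1, 0] (Model.cvec (some (pzero hF)))
  have hh3 := Model.hyp_cmat hF hx g ![0, 1, 0] ![0, 1, 0]
  rw [← hM, ← hu, hα] at hh1
  rw [← hM, ← hu, hγ] at hh2
  rw [← hM, ← hu] at hh3
  simp [hyp, Model.cvec, pzero, zero_pow_q hF, mul_pow, hα0, hγ0] at hh1 hh2 hh3
  rw [hh1, hh2, zero_mul, zero_add, add_zero] at hh3
  set β := u 1 with hβdef
  have hβ0 : β ≠ 0 := left_ne_zero_of_mul_eq_one hh3
  have hu' : u = ![0, β, 0] := by
    ext i
    fin_cases i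
    · simpa using hh2
    · simp [hβdef]
    · simpa using hh1
  have key : ∀ p : Pairs F (2 ^ n), ∃ r : Pairs F (2 ^ n),
      r.1 = (β / γ * p.1.1, α / γ * p.1.2) ∧
        phi hF hx (QuotientGroup.mk' _ g) (some p) = some r := by
    intro p
    obtain ⟨o, d, hd0, hd⟩ := Model.exists_img hF hx g (some p)
    have hv : Model.cvec (some p) = p.1.2 • Model.cvec (none : Option (Pairs F (2 ^ n))) +
        p.1.1 • ![0, 1, 0] + Model.cvec (some (pzero hF)) := by
      ext i; fin_cases i <;> simp [Model.cvec, pzero]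
    have hd' := hd
    rw [← hM, hv, mulVec_add, mulVec_add, mulVec_smul, mulVec_smul, hα, hγ, ← hu, hu'] at hd'
    have e0 := congrFun hd' 0
    have e1 := congrFun hd' 1
    have e2 := congrFun hd' 2
    rcases o with _ | r
    · simp [Model.cvec, pzero] at e2
      exact absurd e2 hγ0
    · simp [Model.cvec, pzero] at e0 e1 e2
      subst e2
      refine ⟨r, Prod.ext ?_ ?_, ?_⟩
      · show r.1.1 = β / γ * p.1.1
        field_simp
        linear_combination -e1
      · show r.1.2 = α / γ * p.1.2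
        field_simp
        linear_combination -e0
      · rw [phi_mk, Model.pHom_apply, Model.act_eq hF hx hd]
  refine ⟨β / γ, α / γ, div_ne_zero hβ0 hγ0, ?_, key⟩
  obtain ⟨r, hr, -⟩ := key (cpair hF (one_pow _))
  have hfix : (α / γ) ^ 2 ^ n = α / γ := by
    have h := snd_fixed hF (p := r) (by simp [hr, cpair])
    simpa [hr, cpair] using h
  obtain ⟨p, hp⟩ := exists_pair hF (n := n) (1 : F)
  obtain ⟨r, hr, -⟩ := key p
  have hr2 := r.2
  have hp2 := p.2
  simp only [hr, hp, mul_one, one_pow] at hr2 hp2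
  rw [mul_pow (α / γ), hfix] at hr2
  linear_combination hr2 - (α / γ) * hp2

/-- The diagonal elements normalise the translations. -/
theorem conj_tU {g : M₃} (hn : phi hF hx g none = none)
    (h0 : phi hF hx g (some (pzero hF)) = some (pzero hF)) (p r : Pairs F (2 ^ n))
    (hr : phi hF hx g (some p) = some r) : g * tU hF hx p * g⁻¹ = tU hF hx r := by
  obtain ⟨κ, ν, -, hν, h⟩ := stab_two hF hx hn h0
  obtain ⟨r', hr', hgr'⟩ := h p
  obtain rfl : r = r' := Option.some.inj (hr.symm.trans hgr')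
  rw [mul_inv_eq_iff_eq_mul]
  refine phi_inj hF hx (Equiv.ext fun o => ?_)
  rw [map_mul, map_mul, Equiv.Perm.mul_apply, Equiv.Perm.mul_apply]
  rcases o with _ | y
  · rw [tU_none, hn, tU_none]
  · obtain ⟨s, hs, hgs⟩ := h y
    obtain ⟨s', hs', hgs'⟩ := h (pm hF p y)
    rw [tU_some, hgs, hgs', tU_some]
    refine congrArg _ (Subtype.ext ?_)
    rw [hs']
    simp only [pm, hr', hs, hν, mul_pow]
    exact Prod.ext (by ring) (by ring)

theorem stab_decomp {g : M₃} (hn : phi hF hx g none = none) :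
    ∃ (c : Pairs F (2 ^ n)) (h : M₃), g = tU hF hx c * h ∧ phi hF hx h none = none ∧
      phi hF hx h (some (pzero hF)) = some (pzero hF) := by
  rcases e : phi hF hx g (some (pzero hF)) with _ | c
  · exact absurd ((phi hF hx g).injective (e.trans hn.symm)) (by simp)
  refine ⟨c, (tU hF hx c)⁻¹ * g, (mul_inv_cancel_left _ _).symm, ?_, ?_⟩
  · rw [map_mul, Equiv.Perm.mul_apply, hn, map_inv]
    exact (Equiv.Perm.inv_eq_iff_eq).2 (tU_none hF hx c).symm
  · rw [map_mul, Equiv.Perm.mul_apply, e, map_inv]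
    exact (Equiv.Perm.inv_eq_iff_eq).2 (by rw [tU_some, pm_pzero])

theorem mem_normalizer_of_fix {g : M₃} (hn : phi hF hx g none = none) :
    g ∈ normalizer ((tGroup hF hx : Subgroup M₃) : Set M₃) := by
  haveI : Finite M₃ := Quotient.finite _
  obtain ⟨c, h, rfl, hh, hh0⟩ := stab_decomp hF hx hn
  refine mul_mem (le_normalizer ⟨c, rfl⟩) (Subgroup.mem_normalizer_fintype ?_)
  rintro _ ⟨p, rfl⟩
  obtain ⟨_, _, -, -, hκ⟩ := stab_two hF hx hh hh0
  obtain ⟨r, -, hr⟩ := hκ p
  exact ⟨r, (conj_tU hF hx hh hh0 p r hr).symm⟩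

theorem fix_of_mem_normalizer {g : M₃}
    (hg : g ∈ normalizer ((tGroup hF hx : Subgroup M₃) : Set M₃)) : phi hF hx g none = none := by
  let p : Pairs F (2 ^ n) := cpair hF (one_pow (2 ^ n))
  have hp : p ≠ pzero hF := fun h => by
    simpa [p, cpair, pzero] using congrArg (fun s : Pairs F (2 ^ n) => s.1.2) h
  obtain ⟨r, hr⟩ := (mem_normalizer_iff.1 (inv_mem hg) _).1 ⟨p, rfl⟩
  rw [inv_inv] at hr
  refine eq_none_of_fix hF hx hp ?_
  have hpe : tU hF hx p = g * tU hF hx r * g⁻¹ := by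
    rw [hr]; group
  rw [hpe]
  simp only [map_mul, map_inv, Equiv.Perm.mul_apply, perm_inv_apply, tU_none]

theorem fix_of_comm {p : Pairs F (2 ^ n)} (hp : p ≠ pzero hF) {g : M₃}
    (hg : g * tU hF hx p = tU hF hx p * g) : phi hF hx g none = none := by
  refine eq_none_of_fix hF hx hp ?_
  have h := congrArg (fun k => phi hF hx k none) hg
  simp only [map_mul, Equiv.Perm.mul_apply, tU_none] at h
  exact h.symm

theorem fst_zero_of_sq {p : Pairs F (2 ^ n)} (h : tU hF hx p * tU hF hx p = 1) : p.1.1 = 0 := by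
  rw [tU_mul, ← tU_zero hF hx] at h
  have h2 := congrArg (fun s : Pairs F (2 ^ n) => s.1.2) (tU_inj hF hx h)
  rw [show (pm hF p p).1.2 = _ from (sq_eq hF p).2] at h2
  simpa [pzero] using h2

theorem sq_of_fst_zero {p : Pairs F (2 ^ n)} (h : p.1.1 = 0) : tU hF hx p * tU hF hx p = 1 := by
  rw [tU_mul, ← tU_zero hF hx]
  refine congrArg _ (Subtype.ext (Prod.ext ?_ ?_))
  · rw [(sq_eq hF p).1]; rfl
  · rw [(sq_eq hF p).2, h, zero_mul]; rfl

theorem commute_of_fix {h h' : M₃} (hn : phi hF hx h none = none)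
    (h0 : phi hF hx h (some (pzero hF)) = some (pzero hF)) (hn' : phi hF hx h' none = none)
    (h0' : phi hF hx h' (some (pzero hF)) = some (pzero hF)) : h * h' = h' * h := by
  obtain ⟨κ, ν, -, -, H⟩ := stab_two hF hx hn h0
  obtain ⟨κ', ν', -, -, H'⟩ := stab_two hF hx hn' h0'
  refine phi_inj hF hx (Equiv.ext fun o => ?_)
  rw [map_mul, map_mul, Equiv.Perm.mul_apply, Equiv.Perm.mul_apply]
  rcases o with _ | p
  · rw [hn, hn', hn]
  · obtain ⟨r, hr, e⟩ := H p
    obtain ⟨r', hr', e'⟩ := H' p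
    obtain ⟨s, hs, es⟩ := H r'
    obtain ⟨s', hs', es'⟩ := H' r
    rw [e, e', es, es']
    refine congrArg _ (Subtype.ext ?_)
    rw [hs, hs', hr, hr']
    exact Prod.ext (by ring) (by ring)

theorem commutator_mem {g g' : M₃} (hn : phi hF hx g none = none)
    (hn' : phi hF hx g' none = none) :
    g * g' * g⁻¹ * g'⁻¹ ∈ tGroup hF hx := by
  obtain ⟨c, h, rfl, hh, hh0⟩ := stab_decomp hF hx hn
  obtain ⟨c', h', rfl, hh', hh0'⟩ := stab_decomp hF hx hn'
  have hN := mem_normalizer_of_fix hF hx hh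
  have hN' := mem_normalizer_of_fix hF hx hh'
  have hc : tU hF hx c ∈ tGroup hF hx := ⟨c, rfl⟩
  have hc' : tU hF hx c' ∈ tGroup hF hx := ⟨c', rfl⟩
  have hcomm := commute_of_fix hF hx hh hh0 hh' hh0'
  have key : tU hF hx c * h * (tU hF hx c' * h') * (tU hF hx c * h)⁻¹ * (tU hF hx c' * h')⁻¹ =
      tU hF hx c * (h * tU hF hx c' * h⁻¹) *
        (h' * (tU hF hx c)⁻¹ * h'⁻¹) * (tU hF hx c')⁻¹ := by
    calc _ = tU hF hx c * (h * tU hF hx c' * h⁻¹) * (h * h' * h⁻¹) * (tU hF hx c)⁻¹ * h'⁻¹ *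
          (tU hF hx c')⁻¹ := by group
      _ = _ := by rw [hcomm, mul_inv_cancel_right]; group
  rw [key]
  exact mul_mem (mul_mem (mul_mem hc ((mem_normalizer_iff.1 hN _).1 hc'))
    ((mem_normalizer_iff.1 hN' _).1 (inv_mem hc))) (inv_mem hc')

theorem self_cent : centralizer ((tGroup hF hx : Subgroup M₃) : Set M₃) ≤ tGroup hF hx := by
  intro g hg
  have hn := fix_of_mem_normalizer hF hx (centralizer_le_normalizer _ hg)
  obtain ⟨c, h, rfl, hh, hh0⟩ := stab_decomp hF hx hn
  obtain ⟨κ, ν, -, hν, H⟩ := stab_two hF hx hh hh0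
  have hκ : κ = 1 := by
    obtain ⟨p, hp⟩ := exists_pair hF (n := n) (1 : F)
    obtain ⟨r, hr, e⟩ := H p
    have h1 := congrArg (fun k => phi hF hx k (some (pzero hF)))
      (mem_centralizer_iff.1 hg _ ⟨p, rfl⟩)
    simp only [map_mul, Equiv.Perm.mul_apply, hh0, tU_some, pm_pzero, e] at h1
    have h2 := congrArg (fun s : Pairs F (2 ^ n) => s.1.1) (Option.some.inj h1)
    simp only [pm, hr, hp, mul_one] at h2
    linear_combination -h2
  have hh1 : h = 1 := by
    refine phi_inj hF hx (Equiv.ext fun o => ?_)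
    rw [map_one, Equiv.Perm.one_apply]
    rcases o with _ | p
    · exact hh
    · obtain ⟨r, hr, e⟩ := H p
      rw [e]
      refine congrArg _ (Subtype.ext ?_)
      rw [hr, hν, hκ, one_pow, one_mul, one_mul, one_mul]
  rw [hh1, mul_one]
  exact ⟨c, rfl⟩

theorem tor_zero (e : Fˣ) :
    phi hF hx (QuotientGroup.mk' (center (Cfsg.SU 3 F (2 ^ n))) (tor hF hx e))
      (some (pzero hF)) = some (pzero hF) := by
  rw [phi_mk, Model.pHom_apply]
  refine Model.act_eq hF hx (c := ((e : F) ^ 2 ^ n)⁻¹) ?_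
  show (tInv x * (tMat x * dMat n (e : F) * tInv x) * tMat x) *ᵥ _ = _
  simp only [← mul_assoc, tInv_mul_tMat hF, one_mul]
  rw [mul_assoc, tInv_mul_tMat hF, mul_one]
  ext i
  fin_cases i <;> simp [dMat, Model.cvec, pzero, Matrix.mulVec_diagonal]

theorem central_tU {z p : Pairs F (2 ^ n)} (h : z.1.1 = 0) :
    tU hF hx z * tU hF hx p = tU hF hx p * tU hF hx z := by
  rw [tU_mul, tU_mul]
  refine congrArg _ (Subtype.ext ?_)
  simp only [pm, h, zero_pow_q hF]
  exact Prod.ext (by ring) (by ring)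

/-- The elements `(0, b)` of the translation group. -/
def centre : Subgroup M₃ where
  carrier := {g | ∃ p : Pairs F (2 ^ n), p.1.1 = 0 ∧ tU hF hx p = g}
  one_mem' := ⟨pzero hF, rfl, tU_zero hF hx⟩
  mul_mem' := by
    rintro _ _ ⟨p, hp, rfl⟩ ⟨r, hr, rfl⟩
    exact ⟨pm hF p r, by simp [pm, hp, hr], (tU_mul hF hx p r).symm⟩
  inv_mem' := by
    rintro _ ⟨p, hp, rfl⟩
    exact ⟨pinv hF p, hp, (tU_inv hF hx p).symm⟩

theorem card_centre : Nat.card (centre hF hx) = 2 ^ n := by
  refine Eq.trans ?_ (card_fixed hF)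
  refine (Nat.card_eq_of_bijective
    (fun b : {b : F // b ^ 2 ^ n = b} => (⟨_, cpair hF b.2, rfl, rfl⟩ : centre hF hx)) ⟨?_, ?_⟩).symm
  · intro a b hab
    exact Subtype.ext (congrArg (fun s : Pairs F (2 ^ n) => s.1.2)
      (tU_inj hF hx (congrArg Subtype.val hab)))
  · rintro ⟨_, p, hp, rfl⟩
    exact ⟨⟨p.1.2, snd_fixed hF hp⟩,
      Subtype.ext (congrArg (tU hF hx) (Subtype.ext (Prod.ext hp.symm rfl)))⟩

theorem exists_torus :
    ∃ t ∈ normalizer ((tGroup hF hx : Subgroup M₃) : Set M₃), Odd (orderOf t) ∧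
      ∀ p r : Pairs F (2 ^ n), p.1.1 = 0 → p.1.2 ≠ 0 → r.1.1 = 0 → r.1.2 ≠ 0 →
        ∃ k : ℕ, t ^ k * tU hF hx p * (t ^ k)⁻¹ = tU hF hx r := by
  classical
  obtain ⟨g, hg⟩ := IsCyclic.exists_generator (α := Fˣ)
  set t : M₃ := QuotientGroup.mk' (center (Cfsg.SU 3 F (2 ^ n))) (tor hF hx g) with ht
  have htor : ∀ e : Fˣ, ∀ k : ℕ, (tor hF hx e) ^ k = tor hF hx (e ^ k) := by
    intro e k
    induction k with
    | zero =>
      rw [pow_zero, pow_zero]
      refine Subtype.ext (Subtype.ext ?_)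
      show (1 : Matrix (Fin 3) (Fin 3) F) = tMat x * dMat n ((1 : Fˣ) : F) * tInv x
      have hd : dMat n ((1 : Fˣ) : F) = 1 := by
        ext i j
        fin_cases i <;> fin_cases j <;> simp [dMat]
      rw [hd, mul_one, tMat_mul_tInv hF]
    | succ k ih =>
      rw [pow_succ, ih, pow_succ]
      refine Subtype.ext (Subtype.ext ?_)
      show tMat x * dMat n ((e ^ k : Fˣ) : F) * tInv x * (tMat x * dMat n (e : F) * tInv x) =
        tMat x * dMat n ((e ^ k * e : Fˣ) : F) * tInv x
      have hd : dMat n ((e ^ k : Fˣ) : F) * dMat n (e : F) = dMat n ((e ^ k * e : Fˣ) : F) := by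
        rw [dMat, dMat, dMat, Matrix.diagonal_mul_diagonal]
        congr 1
        funext i
        fin_cases i <;> simp [mul_pow] <;> field_simp
      rw [← hd]
      simp only [mul_assoc]
      rw [← mul_assoc (tInv x) (tMat x), tInv_mul_tMat hF, one_mul]
  have hodd : Odd (orderOf t) := by
    have h1 : t ^ (Fintype.card F - 1) = 1 := by
      rw [ht, ← map_pow, htor, show g ^ (Fintype.card F - 1) = 1 by
        rw [← Fintype.card_units]; exact pow_card_eq_one]
      have h := htor 1 0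
      rw [pow_zero, pow_zero] at h
      rw [← h, map_one]
    refine Odd.of_dvd_nat ?_ (orderOf_dvd_of_pow_eq_one h1)
    rw [hF, Nat.odd_iff]
    have he : 2 ∣ (2 ^ n) ^ 2 := by
      refine Dvd.dvd.pow (dvd_pow_self 2 fun h => ?_) two_ne_zero
      have := Fintype.one_lt_card (α := F)
      rw [hF, h] at this
      norm_num at this
    have := Nat.two_pow_pos n
    have : 0 < (2 ^ n) ^ 2 := by positivity
    omega
  refine ⟨t, torus_mem hF hx g, hodd, fun p r hp hp0 hr hr0 => ?_⟩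
  obtain ⟨a, ha⟩ := norm_surj hF (y := r.1.2 / p.1.2) (by
    rw [div_pow, snd_fixed hF hr, snd_fixed hF hp])
  have ha0 : a ≠ 0 := by
    rintro rfl
    rw [zero_mul] at ha
    exact div_ne_zero hr0 hp0 ha.symm
  obtain ⟨k, hk⟩ := mem_powers_iff_mem_zpowers.2 (hg (Units.mk0 a ha0))
  refine ⟨k, ?_⟩
  rw [ht, ← map_pow, htor, torus_conj]
  refine congrArg _ (Subtype.ext (Prod.ext ?_ ?_))
  · simp [tw, hp, hr]
  · have hk' : ((g : F) ^ k) = a := by
      rw [← Units.val_pow_eq_pow_val, show g ^ k = Units.mk0 a ha0 from hk, Units.val_mk0]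
    show nu n ((g ^ k : Fˣ) : F) * p.1.2 = r.1.2
    rw [Units.val_pow_eq_pow_val, hk', nu, ha, div_mul_cancel₀ _ hp0]

/-- An automorphism fixing `Z(P)` and `P / Z(P)` pointwise and the origin is trivial. -/
theorem aut_eq_one (hn2 : 2 ≤ n) (φ : MulAut M₃)
    (hZ : ∀ p : Pairs F (2 ^ n), p.1.1 = 0 → φ (tU hF hx p) = tU hF hx p)
    (hP : ∀ p : Pairs F (2 ^ n), ∃ r : Pairs F (2 ^ n), r.1.1 = p.1.1 ∧
      φ (tU hF hx p) = tU hF hx r)
    (h0 : ∀ g : M₃, phi hF hx g none = some (pzero hF) →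
      phi hF hx (φ g) none = some (pzero hF)) : φ = 1 := by
  classical
  haveI := charP_two hF
  haveI : Finite M₃ := Quotient.finite _
  choose R hR1 hR using hP
  -- the stabiliser of `∞` is invariant
  have hmap : ∀ g : M₃, phi hF hx g none = none → phi hF hx (φ g) none = none := by
    intro g hg
    refine fix_of_mem_normalizer hF hx (Subgroup.mem_normalizer_fintype ?_)
    rintro _ ⟨r, rfl⟩
    obtain ⟨r', hr'⟩ : ∃ r', R r' = r := by
      refine Finite.surjective_of_injective (fun a b hab => ?_) r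
      refine tU_inj hF hx (φ.injective ?_)
      rw [hR, hR, hab]
    rw [← hr', ← hR, ← map_inv, ← map_mul, ← map_mul]
    obtain ⟨s, hs⟩ := (mem_normalizer_iff.1 (mem_normalizer_of_fix hF hx hg) _).1 ⟨r', rfl⟩
    rw [← hs, hR]
    exact ⟨_, rfl⟩
  -- the induced permutation
  choose sec hsec using exists_smul_none hF hx
  let σ : Option (Pairs F (2 ^ n)) → Option (Pairs F (2 ^ n)) :=
    fun o => phi hF hx (φ (sec o)) none
  have hσ : ∀ g : M₃, σ (phi hF hx g none) = phi hF hx (φ g) none := by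
    intro g
    set o := phi hF hx g none
    have hfix : phi hF hx (g⁻¹ * sec o) none = none := by
      rw [map_mul, Equiv.Perm.mul_apply, hsec, map_inv, perm_inv_apply]
    have h := hmap _ hfix
    show phi hF hx (φ (sec o)) none = _
    rw [map_mul, map_mul, Equiv.Perm.mul_apply, map_inv, map_inv] at h
    exact Equiv.Perm.inv_eq_iff_eq.1 h
  have hσmul : ∀ g : M₃, ∀ o, σ (phi hF hx g o) = phi hF hx (φ g) (σ o) := by
    intro g o
    have h1 : phi hF hx g o = phi hF hx (g * sec o) none := by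
      rw [map_mul, Equiv.Perm.mul_apply, hsec]
    rw [h1, hσ, map_mul φ, map_mul, Equiv.Perm.mul_apply]
  have hσn : σ none = none := by
    have h := hσ 1
    simpa using h
  have hσ0 : σ (some (pzero hF)) = some (pzero hF) := by
    obtain ⟨g, hg⟩ := exists_smul_none hF hx (some (pzero hF))
    rw [← hg, hσ, h0 g hg, hg]
  have hσp : ∀ p, σ (some p) = some (R p) := fun p => by
    have h := hσmul (tU hF hx p) (some (pzero hF))
    rwa [tU_some, pm_pzero, hσ0, hR, tU_some, pm_pzero] at h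
  -- the correction is additive and invariant under the torus
  let ψ : Pairs F (2 ^ n) → F := fun p => (R p).1.2 + p.1.2
  have hR2 : ∀ p : Pairs F (2 ^ n), (R p).1.2 = p.1.2 + ψ p := fun p => by
    simp only [ψ]
    linear_combination -(p.1.2 * two_eq_zero hF)
  have hRm : ∀ p r, R (pm hF p r) = pm hF (R p) (R r) := fun p r => by
    refine tU_inj hF hx ?_
    rw [← hR, ← tU_mul, map_mul, hR, hR, tU_mul]
  have hψm : ∀ p r, ψ (pm hF p r) = ψ p + ψ r := fun p r => by
    simp only [ψ]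
    rw [hRm]
    simp only [pm, hR1]
    linear_combination (p.1.1 ^ 2 ^ n * r.1.1) * two_eq_zero hF
  have hψ0 : ∀ c : Pairs F (2 ^ n), c.1.1 = 0 → ψ c = 0 := fun c hc => by
    simp only [ψ]
    rw [tU_inj hF hx ((hR c).symm.trans (hZ c hc)), self_add_zero hF]
  have hψfst : ∀ p r : Pairs F (2 ^ n), p.1.1 = r.1.1 → ψ p = ψ r := by
    intro p r h
    have hc : (pm hF (pinv hF p) r).1.1 = 0 := by
      show p.1.1 + r.1.1 = 0
      rw [h, self_add_zero hF]
    have h1 := hψm p (pm hF (pinv hF p) r)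
    rw [hψ0 _ hc, add_zero] at h1
    rw [← h1]
    refine congrArg ψ (Subtype.ext (Prod.ext ?_ ?_))
    · show p.1.1 + (p.1.1 + r.1.1) = r.1.1
      rw [← add_assoc, self_add_zero hF, zero_add]
    · show p.1.2 + (p.1.2 ^ 2 ^ n + r.1.2 + p.1.1 ^ 2 ^ n * r.1.1) +
        p.1.1 ^ 2 ^ n * (p.1.1 + r.1.1) = r.1.2
      linear_combination p.2 + (p.1.1 ^ 2 ^ n * r.1.1 + p.1.1 * p.1.1 ^ 2 ^ n) * two_eq_zero hF
  -- a torus element centralising `Z(P)`
  have hψ : ∀ p, ψ p = 0 := by
    obtain ⟨-, -, -, e, hμ, hνe⟩ := exists_gen hF hn2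
    set h : M₃ := QuotientGroup.mk' (center (Cfsg.SU 3 F (2 ^ n))) (tor hF hx e) with hh
    have hn : phi hF hx h none = none := fix_of_mem_normalizer hF hx (torus_mem hF hx e)
    have h0h : phi hF hx h (some (pzero hF)) = some (pzero hF) := tor_zero hF hx e
    have hact : ∀ p, phi hF hx h (some p) = some (tw hF e p) := fun p => by
      have h1 := congrArg (fun k => phi hF hx k (some (pzero hF)))
        (mul_inv_eq_iff_eq_mul.1 (torus_conj hF hx e p))
      simp only [← hh, map_mul, Equiv.Perm.mul_apply, h0h, tU_some, pm_pzero] at h1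
      exact h1
    obtain ⟨κ', ν', -, -, H'⟩ := stab_two hF hx (hmap h hn)
      (by have := hσmul h (some (pzero hF)); rw [h0h, hσ0] at this; exact this.symm)
    have key : ∀ p, phi hF hx (φ h) (some (R p)) = some (R (tw hF e p)) := fun p => by
      rw [← hσp p, ← hσmul, hact, hσp]
    have hν' : ν' = 1 := by
      let c := cpair hF (one_pow (M := F) (2 ^ n))
      obtain ⟨r, hr, er⟩ := H' (R c)
      have h12 : r = R (tw hF e c) := Option.some.inj (er.symm.trans (key c))
      have htw : tw hF e c = c := Subtype.ext (by simp [tw, c, cpair, hνe])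
      rw [htw, tU_inj hF hx ((hR c).symm.trans (hZ c rfl))] at h12
      rw [tU_inj hF hx ((hR c).symm.trans (hZ c rfl)), h12] at hr
      have := congrArg Prod.snd hr
      simpa [c, cpair] using this.symm
    have hψtw : ∀ p, ψ (tw hF e p) = ψ p := fun p => by
      obtain ⟨r, hr, er⟩ := H' (R p)
      rw [Option.some.inj (er.symm.trans (key p))] at hr
      have h2 := congrArg Prod.snd hr
      rw [hR2, hR2 p, hν', one_mul, show (tw hF e p).1.2 = p.1.2 by simp [tw, hνe]] at h2
      exact add_left_cancel h2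
    intro p
    have hne : mu n (e : F) - 1 ≠ 0 := sub_ne_zero.2 hμ
    obtain ⟨q, hq⟩ := exists_pair hF (n := n) (p.1.1 / (mu n (e : F) - 1))
    have h1 := hψm (tw hF e q) q
    rw [hψtw, self_add_zero hF] at h1
    rw [← h1]
    refine hψfst _ _ ?_
    show p.1.1 = mu n (e : F) * q.1.1 + q.1.1
    rw [hq]
    field_simp
    linear_combination -(p.1.1 * two_eq_zero hF)
  have hRid : ∀ p, R p = p := fun p =>
    Subtype.ext (Prod.ext (hR1 p) (by show (R p).1.2 = p.1.2; rw [hR2, hψ, add_zero]))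
  have hσid : ∀ o, σ o = o := fun o => by
    rcases o with _ | p
    · exact hσn
    · rw [hσp, hRid]
  refine MulEquiv.ext fun g => phi_inj hF hx (Equiv.ext fun o => ?_)
  have h := hσmul g o
  rw [hσid, hσid] at h
  exact h.symm

/-- An automorphism fixing `Z(P)` and `P / Z(P)` pointwise is inner by an element of `P`. -/
theorem aut_inner (hn2 : 2 ≤ n) (φ : MulAut M₃)
    (hZ : ∀ p : Pairs F (2 ^ n), p.1.1 = 0 → φ (tU hF hx p) = tU hF hx p)
    (hP : ∀ p : Pairs F (2 ^ n), ∃ r : Pairs F (2 ^ n), r.1.1 = p.1.1 ∧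
      φ (tU hF hx p) = tU hF hx r) :
    ∃ g ∈ tGroup hF hx, φ = MulAut.conj g := by
  haveI : Finite M₃ := Quotient.finite _
  obtain ⟨g₀, hg₀⟩ := exists_smul_none hF hx (some (pzero hF))
  have hbase : ∀ ψ : MulAut M₃, (∀ g, phi hF hx g none = none → phi hF hx (ψ g) none = none) →
      ∀ g g', phi hF hx g none = phi hF hx g' none →
        phi hF hx (ψ g) none = phi hF hx (ψ g') none := by
    intro ψ hψ g g' h
    have h1 := hψ (g'⁻¹ * g) (by rw [map_mul, Equiv.Perm.mul_apply, h, map_inv,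
      perm_inv_apply])
    rw [map_mul, map_mul, Equiv.Perm.mul_apply, map_inv, map_inv] at h1
    exact Equiv.Perm.inv_eq_iff_eq.1 h1
  choose R hR1 hR using hP
  have hmap : ∀ g, phi hF hx g none = none → phi hF hx (φ g) none = none := by
    intro g hg
    refine fix_of_mem_normalizer hF hx (Subgroup.mem_normalizer_fintype ?_)
    rintro _ ⟨r, rfl⟩
    obtain ⟨r', hr'⟩ : ∃ r', R r' = r := by
      refine Finite.surjective_of_injective (fun a b hab => ?_) r
      refine tU_inj hF hx (φ.injective ?_)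
      rw [hR, hR, hab]
    rw [← hr', ← hR, ← map_inv, ← map_mul, ← map_mul]
    obtain ⟨s, hs⟩ := (mem_normalizer_iff.1 (mem_normalizer_of_fix hF hx hg) _).1 ⟨r', rfl⟩
    rw [← hs, hR]
    exact ⟨_, rfl⟩
  rcases e : phi hF hx (φ g₀) none with _ | c
  · exfalso
    -- the image of a point other than `∞` is not `∞`
    have hfix := fix_of_mem_normalizer hF hx (g := g₀) (by
      have hN := mem_normalizer_of_fix hF hx e
      rw [mem_normalizer_iff] at hN ⊢
      intro y
      have hy : ∀ z, z ∈ tGroup hF hx ↔ φ z ∈ tGroup hF hx := by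
        intro z
        constructor
        · rintro ⟨r, rfl⟩
          exact ⟨R r, (hR r).symm⟩
        · rintro ⟨r, hr⟩
          obtain ⟨r', rfl⟩ : ∃ r', R r' = r := by
            refine Finite.surjective_of_injective (fun a b hab => ?_) r
            refine tU_inj hF hx (φ.injective ?_)
            rw [hR, hR, hab]
          exact ⟨r', φ.injective (by rw [hR, hr])⟩
      rw [hy, hy (g₀ * y * g₀⁻¹), map_mul, map_mul, map_inv]
      exact hN (φ y))
    rw [hg₀] at hfix
    exact absurd hfix (by simp)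
  refine ⟨tU hF hx c, ⟨c, rfl⟩, ?_⟩
  let β : MulAut M₃ := (MulAut.conj (tU hF hx c))⁻¹ * φ
  have hβ : ∀ y, β y = (tU hF hx c)⁻¹ * φ y * tU hF hx c := fun y => by
    show (MulAut.conj (tU hF hx c)).symm (φ y) = _
    rw [MulAut.conj_symm_apply]
  have key : β = 1 := by
    refine aut_eq_one hF hx hn2 β (fun p hp => ?_) (fun p => ?_) (fun g hg => ?_)
    · rw [hβ, hZ p hp, mul_assoc, central_tU hF hx hp, inv_mul_cancel_left]
    · refine ⟨pm hF (pm hF (pinv hF c) (R p)) c, ?_, ?_⟩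
      · show c.1.1 + (R p).1.1 + c.1.1 = p.1.1
        rw [hR1]
        linear_combination c.1.1 * two_eq_zero hF
      · rw [hβ, hR, tU_inv, tU_mul, tU_mul]
    · rw [hβ, map_mul, map_mul, Equiv.Perm.mul_apply, Equiv.Perm.mul_apply, tU_none,
        hbase φ hmap g g₀ (hg.trans hg₀.symm), e, map_inv]
      exact Equiv.Perm.inv_eq_iff_eq.2 (by rw [tU_some, pm_pzero])
  rw [show φ = MulAut.conj (tU hF hx c) * β from (mul_inv_cancel_left _ _).symm, key, mul_one]

theorem bender_local (hn2 : 2 ≤ n) : BenderLocal M₃ (tGroup hF hx) := by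
  haveI : Finite M₃ := Quotient.finite _
  haveI : Fact (Nat.Prime 2) := ⟨Nat.prime_two⟩
  have hne : ∀ p : Pairs F (2 ^ n), tU hF hx p ≠ 1 → p ≠ pzero hF := fun p h e =>
    h (by rw [e, tU_zero])
  have hT : IsPGroup 2 (tGroup hF hx) := by
    obtain ⟨T, hT⟩ := exists_sylow_tGroup hF hx
    rw [← hT]
    exact T.2
  refine ⟨?_, ⟨centre hF hx, ?_, ?_, ?_⟩, ?_, ?_, ?_, self_cent hF hx, ?_⟩
  · rintro _ ⟨p, rfl⟩ h2 _ ⟨r, rfl⟩
    exact central_tU hF hx (fst_zero_of_sq hF hx h2)
  · rintro _ ⟨p, -, rfl⟩; exact ⟨p, rfl⟩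
  · rintro _ ⟨p, hp, rfl⟩; exact sq_of_fst_zero hF hx hp
  · rw [card_centre]
    calc (4 : ℕ) = 2 ^ 2 := rfl
      _ ≤ 2 ^ n := Nat.pow_le_pow_right two_pos hn2
  · obtain ⟨t, ht, hodd, h⟩ := exists_torus hF hx
    refine ⟨t, ht, hodd, ?_⟩
    rintro _ ⟨p, rfl⟩ h2 h1 _ ⟨r, rfl⟩ h2' h1'
    have hp := fst_zero_of_sq hF hx h2
    have hr := fst_zero_of_sq hF hx h2'
    exact h p r hp (fun e => hne p h1 (Subtype.ext (Prod.ext hp e))) hr
      (fun e => hne r h1' (Subtype.ext (Prod.ext hr e)))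
  · rintro _ ⟨p, rfl⟩ - h1
    set C := centralizer ({tU hF hx p} : Set M₃) with hC
    have hle : (commutator ↥C).map C.subtype ≤ tGroup hF hx := by
      rw [Subgroup.map_le_iff_le_comap, commutator_def, Subgroup.commutator_le]
      intro a _ b _
      exact commutator_mem hF hx
        (fix_of_comm hF hx (hne p h1) (mem_centralizer_singleton_iff.1 a.2))
        (fix_of_comm hF hx (hne p h1) (mem_centralizer_singleton_iff.1 b.2))
    haveI : Group.IsNilpotent ↥((commutator ↥C).map C.subtype) := (hT.to_le hle).isNilpotent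
    haveI : Group.IsSolvable ↥(commutator ↥C) := Group.isSolvable_of_isSolvable_injective
      (f := ((commutator ↥C).equivMapOfInjective C.subtype C.subtype_injective).toMonoidHom)
      ((commutator ↥C).equivMapOfInjective C.subtype C.subtype_injective).injective
    exact Group.isSolvable_of_ker_le_range (commutator ↥C).subtype Abelianization.of
      (by rw [Abelianization.ker_of, Subgroup.range_subtype])
  · rintro _ ⟨p, rfl⟩ - h1 g hg
    exact mem_normalizer_of_fix hF hx
      (fix_of_comm hF hx (hne p h1) (mem_centralizer_singleton_iff.1 hg))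
  · intro φ hfix hmod
    refine aut_inner hF hx hn2 φ (fun p hp => hfix _ ⟨p, rfl⟩ (sq_of_fst_zero hF hx hp))
      (fun p => ?_)
    obtain ⟨⟨r, hr⟩, h2⟩ := hmod _ ⟨p, rfl⟩
    refine ⟨r, ?_, hr.symm⟩
    rw [← hr, tU_inv, tU_mul] at h2
    have h0 : p.1.1 + r.1.1 = 0 := fst_zero_of_sq hF hx h2
    linear_combination h0 - p.1.1 * two_eq_zero hF

end Cfsg.Agent.Lib.Goldschmidt53.UnitaryModel
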