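import Cfsg.Agent.Lib.Goldschmidt53.Facts.Common
import Cfsg.Agent.Lib.Walter.KnownFactsJR
import Cfsg.Agent.Lib.BenderOne.Final
import Cfsg.Agent.S4593

/-!
# The known groups with abelian Sylow 2-subgroups: section L

Owner: helper72.
-/

set_option autoImplicit false
set_option linter.style.haveILetI false

universe u

namespace Cfsg.Agent.Lib.Goldschmidt53

open Subgroup

variable {L : Type u} [Group L] [Finite L]

theorem abelian_facts (hL : Walter.IsKnownA L) : Facts L := by
  haveI : Fact (Nat.Prime 2) := ⟨Nat.prime_two⟩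
  have F := (Walter.knownFacts BenderOne.propSplitFinal).1 L hL
  haveI := F.simple
  have hOm : ∀ P : Sylow 2 L, Om P = (P : Subgroup L) := fun P =>
    Om_eq_of_sq_iff le_rfl fun x hx =>
      iff_of_true (by rw [← pow_two]; exact (F.elementary P).2 x hx) hx
  have hcomm : ∀ P : Sylow 2 L, ∀ x ∈ (P : Subgroup L), ∀ y ∈ (P : Subgroup L), x * y = y * x :=
    fun P x hx y hy => by
      haveI := (F.elementary P).1
      exact setLike_mul_comm hx hy
  have hsq : ∀ P : Sylow 2 L, ∀ x ∈ (P : Subgroup L), x * x = 1 :=
    fun P x hx => by rw [← pow_two]; exact (F.elementary P).2 x hx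
  have hZ := FTClassSize.center_eq_bot_of_simple F.nonabelian
  have htorus : ∀ P : Sylow 2 L, ∃ n ∈ normalizer ((P : Subgroup L) : Set L), Odd (orderOf n) ∧
      ∀ x ∈ Om P, x ≠ 1 → ∀ y ∈ Om P, y ≠ 1 → ∃ k : ℕ, n ^ k * x * (n ^ k)⁻¹ = y := by
    intro P
    rw [hOm P]
    exact F.torus P
  have hcore : Cfsg.pPrimeCore 2 L = ⊥ := by
    refine le_bot_iff.1 (sSup_le ?_)
    rintro N ⟨hN, hodd⟩
    rcases IsSimpleGroup.eq_bot_or_eq_top_of_normal N hN with h | h
    · exact h.le
    · obtain ⟨P⟩ : Nonempty (Sylow 2 L) := inferInstance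
      have h4 := F.four_le P
      obtain ⟨n, hn⟩ := P.2.exists_card_eq
      have hdvd : 2 ∣ Nat.card L := by
        refine dvd_trans ?_ (Subgroup.card_subgroup_dvd_card (P : Subgroup L))
        rcases n with _ | n
        · rw [hn, pow_zero] at h4; omega
        · rw [hn, pow_succ]; exact dvd_mul_left 2 _
      rw [h, Subgroup.card_top] at hodd
      exact absurd hdvd ((Nat.Prime.coprime_iff_not_dvd Nat.prime_two).1 hodd.symm)
  exact
  { simple := F.simple
    nonabelian := F.nonabelian
    omega_elementary := fun P => by rw [hOm P]; exact F.elementary P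
    omega_central := fun P x hx y hy => hcomm P x (Om_le P hx) y hy
    four_le := fun P => by rw [hOm P]; exact F.four_le P
    conj := fun u v hu hv => by
      obtain ⟨P⟩ : Nonempty (Sylow 2 L) := inferInstance
      obtain ⟨n, -, -, hn⟩ := htorus P
      exact conj_of_torus P hn u v hu hv
    torus := htorus
    solvable := F.solvable
    core := F.core
    aut := F.aut
    split := fun P α hα hfix _ => by
      have hfix' : ∀ x ∈ (P : Subgroup L), α x = x := fun x hx => hfix x (by rw [hOm P]; exact hx)
      obtain ⟨g, hg⟩ := Cfsg.Agent.S4593.result hZ hcore P (F.elementary P).1 α hα hfix'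
      obtain ⟨j, hj⟩ := hα
      refine ⟨g, mem_sylow_of_normalizer P ((orderOf_eq_of_conj hZ hg).trans hj)
        (centralizer_le_normalizer _ (mem_centralizer_iff.2 fun x hx => ?_)), hg⟩
      have := (hg x).symm.trans (hfix' x hx)
      calc x * g = g * x * g⁻¹ * g := by rw [this]
        _ = g * x := by group
    full := fun P _ x hx hx' => absurd (by rw [hOm P]; exact hx) hx'
    cover := fun E _ _ π hs hp hk h2 P _ => by
      haveI := hp
      exact cover_of_exponent_two P (hsq P) π hs hk h2
    cover_small := fun E _ _ π hs hp hk h2 hlift P => by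
      haveI := hp
      obtain ⟨x, hx1, hx2, hx3⟩ := cover_of_exponent_two P (hsq P) π hs hk h2
      exact absurd (hlift x hx1 hx2) hx3 }

end Cfsg.Agent.Lib.Goldschmidt53
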