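import Cfsg.Agent.Lib.Goldschmidt53.Interface
import Cfsg.Agent.Lib.FTClassSize.Basic
import Mathlib.GroupTheory.Transfer
import Mathlib.GroupTheory.IsPerfect

/-!
# The known groups: common lemmas for section L

Owner: helper72.
-/

set_option autoImplicit false
set_option linter.style.haveILetI false

universe u v

namespace Cfsg.Agent.Lib.Goldschmidt53

open Subgroup

variable {L : Type u} [Group L]

theorem Om_le (P : Sylow 2 L) : Om P ≤ (P : Subgroup L) :=
  PGroups.omegaOne_le 2 _

theorem mem_Om_of_sq {P : Sylow 2 L} {x : L} (hx : x ∈ (P : Subgroup L)) (h2 : x * x = 1) :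
    x ∈ Om P :=
  PGroups.mem_omegaOne_of_pow hx (by rwa [pow_two])

theorem Om_le_of_sq {P : Sylow 2 L} {Z : Subgroup L}
    (h : ∀ x ∈ (P : Subgroup L), x * x = 1 → x ∈ Z) : Om P ≤ Z :=
  (Subgroup.closure_le Z).2 fun x hx => h x hx.1 (by rw [← pow_two]; exact hx.2)

/-- `Ω₁(P)` is the set of all elements of order at most two of `P`, if this is a subgroup. -/
theorem Om_eq_of_sq_iff {P : Sylow 2 L} {Z : Subgroup L} (hZ : Z ≤ (P : Subgroup L))
    (h : ∀ x ∈ (P : Subgroup L), (x * x = 1 ↔ x ∈ Z)) : Om P = Z :=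
  le_antisymm (Om_le_of_sq fun x hx => (h x hx).1) fun x hx =>
    mem_Om_of_sq (hZ hx) ((h x (hZ hx)).2 hx)

theorem exists_conj_mem [Finite L] (P : Sylow 2 L) {t : L} (ht : orderOf t = 2) :
    ∃ g : L, g * t * g⁻¹ ∈ Om P ∧ g * t * g⁻¹ ≠ 1 := by
  haveI : Fact (Nat.Prime 2) := ⟨Nat.prime_two⟩
  obtain ⟨T, hT⟩ := (IsPGroup.of_card (p := 2) (G := zpowers t) (n := 1)
    (by rw [Nat.card_zpowers, ht, pow_one])).exists_le_sylow
  obtain ⟨g, hg⟩ := MulAction.exists_smul_eq L T P
  have hmem : g * t * g⁻¹ ∈ (P : Subgroup L) := by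
    rw [← hg, Sylow.coe_subgroup_smul]
    exact Subgroup.smul_mem_pointwise_smul (a := MulAut.conj g) t _ (hT (mem_zpowers t))
  refine ⟨g, mem_Om_of_sq hmem ?_, fun e => ?_⟩
  · rw [show g * t * g⁻¹ * (g * t * g⁻¹) = g * (t * t) * g⁻¹ by group, ← pow_two, ← ht,
      pow_orderOf_eq_one, mul_one, mul_inv_cancel]
  · rw [conj_eq_one_iff] at e
    rw [e, orderOf_one] at ht
    omega

/-- All involutions are conjugate if they are so in `Ω₁` of a Sylow subgroup. -/
theorem conj_of_torus [Finite L] (P : Sylow 2 L) {n : L}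
    (h : ∀ x ∈ Om P, x ≠ 1 → ∀ y ∈ Om P, y ≠ 1 → ∃ k : ℕ, n ^ k * x * (n ^ k)⁻¹ = y)
    (u v : L) (hu : orderOf u = 2) (hv : orderOf v = 2) : IsConj u v := by
  obtain ⟨g, hg, hg1⟩ := exists_conj_mem P hu
  obtain ⟨g', hg', hg'1⟩ := exists_conj_mem P hv
  obtain ⟨k, hk⟩ := h _ hg hg1 _ hg' hg'1
  refine isConj_iff.2 ⟨g'⁻¹ * n ^ k * g, ?_⟩
  calc g'⁻¹ * n ^ k * g * u * (g'⁻¹ * n ^ k * g)⁻¹
      = g'⁻¹ * (n ^ k * (g * u * g⁻¹) * (n ^ k)⁻¹) * g' := by group
    _ = v := by rw [hk]; group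

/-- If `z` is central in a perfect group with an abelian Sylow subgroup containing it, `z = 1`. -/
theorem eq_one_of_central {E : Type v} [Group E] [Finite E] [Group.IsPerfect E] {T : Subgroup E}
    (hcomm : ∀ a ∈ T, ∀ b ∈ T, a * b = b * a) (hidx : Odd T.index) {z : E} (hz : z ∈ T)
    (hzc : z ∈ center E) (h2 : z * z = 1) : z = 1 := by
  letI : CommGroup ↥T :=
    { T.toGroup with mul_comm := fun a b => Subtype.ext (hcomm a a.2 b b.2) }
  haveI : T.FiniteIndex := inferInstance
  let f : E →* ↥T := MonoidHom.transfer (MonoidHom.id ↥T)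
  have hker : f.ker = ⊤ := by
    refine top_unique ?_
    calc (⊤ : Subgroup E) = commutator E := Group.IsPerfect.commutator_eq_top.symm
      _ ≤ f.ker := by
        rw [commutator_def]
        exact Subgroup.commutator_le.2 fun a _ b _ => by
          rw [MonoidHom.mem_ker, map_commutatorElement]
          exact commutatorElement_eq_one_iff_commute.2 (mul_comm (f a) (f b))
  have hf : f z = 1 := by rw [← MonoidHom.mem_ker, hker]; exact mem_top z
  have hkey : ∀ (k : ℕ) (g : E), g⁻¹ * z ^ k * g ∈ T → g⁻¹ * z ^ k * g = z ^ k := fun k g _ => by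
    rw [(mem_center_iff.1 (pow_mem hzc k) g⁻¹), mul_assoc, inv_mul_cancel, mul_one]
  have h1 : z ^ T.index = 1 := by
    have := congrArg Subtype.val ((MonoidHom.transfer_eq_pow (MonoidHom.id ↥T) z hkey).symm.trans hf)
    simpa using this
  obtain ⟨j, hj⟩ := hidx
  rw [hj, pow_succ, pow_mul, pow_two, h2, one_pow, one_mul] at h1
  exact h1

/-- A perfect double cover in which all involutions lift to involutions cannot exist if the Sylow
subgroup has exponent two. -/
theorem cover_of_exponent_two [Finite L] (P : Sylow 2 L)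
    (hP : ∀ x ∈ (P : Subgroup L), x * x = 1)
    {E : Type v} [Group E] [Finite E] (π : E →* L) (hs : Function.Surjective π)
    [Group.IsPerfect E] (hk : π.ker ≤ center E) (h2 : Nat.card π.ker = 2) :
    ∃ x : E, π x ≠ 1 ∧ π x * π x = 1 ∧ x * x ≠ 1 := by
  haveI : Fact (Nat.Prime 2) := ⟨Nat.prime_two⟩
  by_contra hcon
  push Not at hcon
  let T : Subgroup E := (P : Subgroup L).comap π
  have hker : ∀ x : E, π x = 1 → x * x = 1 := fun x hx => by
    have h := pow_card_eq_one' (x := (⟨x, hx⟩ : π.ker))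
    rw [h2, pow_two] at h
    exact congrArg Subtype.val h
  have hsq : ∀ x ∈ T, x * x = 1 := fun x hx => by
    by_cases h : π x = 1
    · exact hker x h
    · exact hcon x h (hP _ hx)
  have hcomm : ∀ a ∈ T, ∀ b ∈ T, a * b = b * a := by
    intro a ha b hb
    have hinv : ∀ x ∈ T, x⁻¹ = x := fun x hx => inv_eq_of_mul_eq_one_right (hsq x hx)
    calc a * b = (a * b)⁻¹ := (hinv _ (mul_mem ha hb)).symm
      _ = b * a := by rw [mul_inv_rev, hinv a ha, hinv b hb]
  have hidx : Odd T.index := by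
    rw [show T.index = (P : Subgroup L).index from Subgroup.index_comap_of_surjective _ hs,
      Nat.odd_iff, ← Nat.two_dvd_ne_zero]
    exact P.not_dvd_index
  have : π.ker = ⊥ := (Subgroup.eq_bot_iff_forall _).2 fun x hx =>
    eq_one_of_central hcomm hidx (show π x ∈ (P : Subgroup L) by rw [hx]; exact one_mem _)
      (hk hx) (hker x hx)
  rw [this, Subgroup.card_bot] at h2
  omega

/-- A `2`-automorphism which is conjugation by `g` has `g` a `2`-element if the centre is trivial. -/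
theorem orderOf_eq_of_conj (hZ : center L = ⊥) {α : MulAut L} {g : L}
    (hg : ∀ x : L, α x = g * x * g⁻¹) : orderOf g = orderOf α := by
  have hα : α = MulAut.conj g := MulEquiv.ext fun x => by rw [hg x, MulAut.conj_apply]
  rw [hα, orderOf_injective MulAut.conj ?_ g]
  intro a b hab
  have hmem : a⁻¹ * b ∈ center L := mem_center_iff.2 fun x => by
    have := DFunLike.congr_fun hab x
    simp only [MulAut.conj_apply] at this
    calc x * (a⁻¹ * b) = a⁻¹ * (a * x * a⁻¹) * b := by group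
      _ = a⁻¹ * (b * x * b⁻¹) * b := by rw [this]
      _ = a⁻¹ * b * x := by group
  rw [hZ, mem_bot] at hmem
  exact inv_mul_eq_one.1 hmem

/-- A `2`-element normalising a Sylow `2`-subgroup lies in it. -/
theorem mem_sylow_of_normalizer [Finite L] (P : Sylow 2 L) {g : L} {j : ℕ} (hg : orderOf g = 2 ^ j)
    (hN : g ∈ normalizer ((P : Subgroup L) : Set L)) : g ∈ (P : Subgroup L) := by
  haveI : Fact (Nat.Prime 2) := ⟨Nat.prime_two⟩
  have h2 : IsPGroup 2 (zpowers g) := IsPGroup.of_card (n := j) (by rw [Nat.card_zpowers, hg])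
  have hle : zpowers g ≤ normalizer ((P : Subgroup L) : Set L) := zpowers_le.2 hN
  have h := (h2.to_sup_of_normal_right' (K := (P : Subgroup L)) P.2 hle)
  have := P.3 h le_sup_right
  exact this ▸ mem_sup_left (mem_zpowers g)

end Cfsg.Agent.Lib.Goldschmidt53
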