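import Cfsg.Agent.Lib.Goldschmidt53.Facts.Common
import Cfsg.Agent.Lib.Walter.Basic

/-!
# Groups of Bender type: the local data used in section L

Owner: helper72.
-/

set_option autoImplicit false
set_option linter.style.haveILetI false

universe u v

namespace Cfsg.Agent.Lib.Goldschmidt53

open Subgroup

/-- What is used about a Sylow 2-subgroup `P` of `Sz(q)` or `PSU(3, q)`. -/
structure BenderLocal (L : Type u) [Group L] (P : Subgroup L) : Prop where
  central : ∀ x ∈ P, x * x = 1 → ∀ y ∈ P, x * y = y * x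
  four : ∃ Z ≤ P, (∀ z ∈ Z, z * z = 1) ∧ 4 ≤ Nat.card Z
  torus : ∃ n ∈ normalizer (P : Set L), Odd (orderOf n) ∧ ∀ x ∈ P, x * x = 1 → x ≠ 1 →
    ∀ y ∈ P, y * y = 1 → y ≠ 1 → ∃ k : ℕ, n ^ k * x * (n ^ k)⁻¹ = y
  solvable : ∀ z ∈ P, z * z = 1 → z ≠ 1 → Group.IsSolvable ↥(centralizer ({z} : Set L))
  cent_le : ∀ z ∈ P, z * z = 1 → z ≠ 1 → centralizer ({z} : Set L) ≤ normalizer (P : Set L)
  self_cent : centralizer (P : Set L) ≤ P
  fixes : ∀ φ : MulAut L, (∀ z ∈ P, z * z = 1 → φ z = z) →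
    (∀ x ∈ P, φ x ∈ P ∧ x⁻¹ * φ x * (x⁻¹ * φ x) = 1) → ∃ g ∈ P, φ = MulAut.conj g

theorem BenderLocal.congr {L : Type u} {M : Type v} [Group L] [Group M] (e : L ≃* M)
    {P : Subgroup L} {P' : Subgroup M} (hP : ∀ x, e x ∈ P' ↔ x ∈ P) (h : BenderLocal M P') :
    BenderLocal L P := by
  have hsq : ∀ {x : L}, x * x = 1 → e x * e x = 1 := fun hx => by rw [← map_mul, hx, map_one]
  have hne : ∀ {x : L}, x ≠ 1 → e x ≠ 1 := fun hx h => hx (e.map_eq_one_iff.1 h)
  have hcent : ∀ z x : L, x ∈ centralizer ({z} : Set L) ↔ e x ∈ centralizer ({e z} : Set M) := by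
    intro z x
    rw [mem_centralizer_singleton_iff, mem_centralizer_singleton_iff, ← map_mul, ← map_mul,
      e.injective.eq_iff]
  have hN : ∀ x, x ∈ normalizer (P : Set L) ↔ e x ∈ normalizer (P' : Set M) := by
    intro x
    rw [mem_normalizer_iff, mem_normalizer_iff, e.surjective.forall]
    simp only [← map_inv, ← map_mul, hP]
  refine ⟨fun x hx h2 y hy => e.injective ?_, ?_, ?_, fun z hz h2 h1 => ?_,
    fun z hz h2 h1 x hx => ?_, fun x hx => ?_, fun φ hfix hmod => ?_⟩
  · rw [map_mul, map_mul]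
    exact h.central _ ((hP x).2 hx) (hsq h2) _ ((hP y).2 hy)
  · obtain ⟨Z, hZ, h2, h4⟩ := h.four
    refine ⟨Z.comap e.toMonoidHom, fun x hx => (hP x).1 (hZ hx), fun x hx => e.injective ?_, ?_⟩
    · rw [map_mul, map_one]
      exact h2 _ hx
    · refine h4.trans (le_of_eq ?_)
      exact Nat.card_congr (e.symm.toEquiv.subtypeEquiv fun y =>
        show y ∈ Z ↔ e (e.symm y) ∈ Z by rw [e.apply_symm_apply])
  · obtain ⟨n, hn, hodd, htr⟩ := h.torus
    refine ⟨e.symm n, (hN _).2 (by rwa [e.apply_symm_apply]), by rwa [e.symm.orderOf_eq],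
      fun x hx h2 h1 y hy h2' h1' => ?_⟩
    obtain ⟨k, hk⟩ := htr _ ((hP x).2 hx) (hsq h2) (hne h1) _ ((hP y).2 hy) (hsq h2') (hne h1')
    exact ⟨k, e.injective (by rw [map_mul, map_mul, map_inv, map_pow, e.apply_symm_apply, hk])⟩
  · haveI := h.solvable _ ((hP z).2 hz) (hsq h2) (hne h1)
    refine Group.isSolvable_of_isSolvable_injective
      (f := (e.toMonoidHom.comp (centralizer ({z} : Set L)).subtype).codRestrict
        (centralizer ({e z} : Set M)) fun x => (hcent z x).1 x.2)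
      fun a b hab => Subtype.ext (e.injective (congrArg Subtype.val hab))
  · exact (hN x).2 (h.cent_le _ ((hP z).2 hz) (hsq h2) (hne h1) ((hcent z x).1 hx))
  · refine (hP x).1 (h.self_cent (mem_centralizer_iff.2 fun y hy => ?_))
    obtain ⟨y', rfl⟩ := e.surjective y
    rw [← map_mul, ← map_mul, mem_centralizer_iff.1 hx y' ((hP y').1 hy)]
  · obtain ⟨g, hg, hgφ⟩ := h.fixes ((e.symm.trans φ).trans e) (fun w hw h2 => by
      obtain ⟨z, rfl⟩ := e.surjective w
      show e (φ (e.symm (e z))) = e z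
      rw [e.symm_apply_apply, hfix z ((hP z).1 hw) (e.injective (by rw [map_mul, map_one]; exact h2))])
      (fun w hw => by
        obtain ⟨z, rfl⟩ := e.surjective w
        show e (φ (e.symm (e z))) ∈ P' ∧ (e z)⁻¹ * e (φ (e.symm (e z))) *
          ((e z)⁻¹ * e (φ (e.symm (e z)))) = 1
        rw [e.symm_apply_apply]
        obtain ⟨h1, h2⟩ := hmod z ((hP z).1 hw)
        exact ⟨(hP _).2 h1, by rw [← map_inv, ← map_mul, ← map_mul, h2, map_one]⟩)
    obtain ⟨g', rfl⟩ := e.surjective g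
    refine ⟨g', (hP g').1 hg, MulEquiv.ext fun x => e.injective ?_⟩
    have := DFunLike.congr_fun hgφ (e x)
    simpa [MulAut.conj_apply] using this

variable {L : Type u} [Group L]

theorem BenderLocal.mem_Om {P : Sylow 2 L} (h : BenderLocal L (P : Subgroup L)) {x : L} :
    x ∈ Om P ↔ x ∈ (P : Subgroup L) ∧ x * x = 1 := by
  refine ⟨fun hx => ?_, fun hx => mem_Om_of_sq hx.1 hx.2⟩
  induction hx using Subgroup.closure_induction with
  | mem x hx => exact ⟨hx.1, by rw [← pow_two]; exact hx.2⟩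
  | one => exact ⟨one_mem _, mul_one 1⟩
  | mul a b _ _ ha hb =>
    refine ⟨mul_mem ha.1 hb.1, ?_⟩
    rw [mul_assoc, ← mul_assoc b a b, ← h.central a ha.1 ha.2 b hb.1, mul_assoc a b b, hb.2, mul_one,
      ha.2]
  | inv a _ ha => exact ⟨inv_mem ha.1, by rw [← mul_inv_rev, ha.2, inv_one]⟩

variable [Finite L]

/-- Centralisers of involutions have trivial odd core. -/
theorem BenderLocal.core_eq_bot (hloc : ∀ P : Sylow 2 L, BenderLocal L (P : Subgroup L)) {u : L}
    (hu : orderOf u = 2) : Cfsg.centralizerPPrimeCore 2 u = ⊥ := by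
  haveI : Fact (Nat.Prime 2) := ⟨Nat.prime_two⟩
  obtain ⟨P⟩ : Nonempty (Sylow 2 L) := inferInstance
  obtain ⟨g, hgO, hg1⟩ := exists_conj_mem P hu
  obtain ⟨hg, hg2⟩ := (hloc P).mem_Om.1 hgO
  have key : Walter.core (g * u * g⁻¹) = ⊥ := by
    rw [Subgroup.eq_bot_iff_forall]
    intro k hk
    have hodd := Walter.odd_core (g * u * g⁻¹)
    have hP : k ∈ (P : Subgroup L) := by
      refine (hloc P).self_cent (mem_centralizer_iff.2 fun p hp => ?_)
      have hpz : p ∈ centralizer ({g * u * g⁻¹} : Set L) :=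
        mem_centralizer_singleton_iff.2 ((hloc P).central _ hg hg2 p hp).symm
      have h1 : p * k * p⁻¹ * k⁻¹ ∈ Walter.core (g * u * g⁻¹) :=
        mul_mem ((mem_normalizer_iff.1 (Walter.centralizer_le_normalizer_core _ hpz) k).1 hk)
          (inv_mem hk)
      have h2 : p * k * p⁻¹ * k⁻¹ ∈ (P : Subgroup L) := by
        rw [show p * k * p⁻¹ * k⁻¹ = p * (k * p⁻¹ * k⁻¹) by group]
        exact mul_mem hp ((mem_normalizer_iff.1
          ((hloc P).cent_le _ hg hg2 hg1 (Walter.core_le _ hk)) _).1 (inv_mem hp))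
      obtain ⟨j, hj⟩ := IsPGroup.iff_orderOf.1 P.2 ⟨_, h2⟩
      rw [Subgroup.orderOf_mk] at hj
      have := (Odd.of_dvd_nat hodd (Subgroup.orderOf_dvd_natCard _ h1))
      rw [hj] at this
      rcases j with _ | j
      · rw [pow_zero, orderOf_eq_one_iff] at hj
        calc p * k = p * k * p⁻¹ * k⁻¹ * (k * p) := by group
          _ = k * p := by rw [hj, one_mul]
      · exact absurd this (Nat.not_odd_iff_even.2 ((Nat.even_pow.2 ⟨even_two, by omega⟩)))
    obtain ⟨j, hj⟩ := IsPGroup.iff_orderOf.1 P.2 ⟨k, hP⟩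
    rw [Subgroup.orderOf_mk] at hj
    have := (Odd.of_dvd_nat hodd (Subgroup.orderOf_dvd_natCard _ hk))
    rw [hj] at this
    rcases j with _ | j
    · rw [pow_zero, orderOf_eq_one_iff] at hj
      exact hj
    · exact absurd this (Nat.not_odd_iff_even.2 ((Nat.even_pow.2 ⟨even_two, by omega⟩)))
  have h := Walter.core_conj g u
  rw [key] at h
  exact (Subgroup.map_eq_bot_iff_of_injective _ (MulAut.conj g).injective).1 h.symm

/-- All fields of `Facts` from the local data, apart from those on covers and commutators. -/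
theorem bender_facts (hS : IsSimpleGroup L) (hloc : ∀ P : Sylow 2 L, BenderLocal L (P : Subgroup L))
    (hfull : ∀ P : Sylow 2 L, Nat.card ↥(Om P) = 4 → ∀ x ∈ (P : Subgroup L), x ∉ Om P →
      ∀ w ∈ Om P, ∃ y ∈ (P : Subgroup L), x * y * x⁻¹ * y⁻¹ = w)
    (hcover : ∀ (E : Type u) [Group E] [Finite E] (π : E →* L), Function.Surjective π →
      Group.IsPerfect E → π.ker ≤ Subgroup.center E → Nat.card π.ker = 2 → ∀ P : Sylow 2 L,
      (∀ x y : E, π x ∈ Om P → π y ∈ (P : Subgroup L) → x * y = y * x) →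
      ∃ x : E, π x ≠ 1 ∧ π x * π x = 1 ∧ x * x ≠ 1)
    (hsmall : ∀ (E : Type u) [Group E] [Finite E] (π : E →* L), Function.Surjective π →
      Group.IsPerfect E → π.ker ≤ Subgroup.center E → Nat.card π.ker = 2 →
      (∀ x : E, π x ≠ 1 → π x * π x = 1 → x * x = 1) →
      ∀ P : Sylow 2 L, Nat.card ↥(Om P) = 8 ∧ Nat.card ↥(P : Subgroup L) = 64) :
    Facts L := by
  haveI : Fact (Nat.Prime 2) := ⟨Nat.prime_two⟩
  haveI := hS
  have hcomm : ∀ (P : Sylow 2 L), ∀ x ∈ Om P, ∀ y ∈ (P : Subgroup L), x * y = y * x :=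
    fun P x hx y hy => (hloc P).central x ((hloc P).mem_Om.1 hx).1 ((hloc P).mem_Om.1 hx).2 y hy
  have hfour : ∀ P : Sylow 2 L, 4 ≤ Nat.card ↥(Om P) := fun P => by
    obtain ⟨Z, hZ, h2, h4⟩ := (hloc P).four
    exact h4.trans (Subgroup.card_le_of_le fun z hz => mem_Om_of_sq (hZ hz) (h2 z hz))
  have htorus : ∀ P : Sylow 2 L, ∃ n ∈ normalizer ((P : Subgroup L) : Set L), Odd (orderOf n) ∧
      ∀ x ∈ Om P, x ≠ 1 → ∀ y ∈ Om P, y ≠ 1 → ∃ k : ℕ, n ^ k * x * (n ^ k)⁻¹ = y := fun P => by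
    obtain ⟨n, hn, hodd, h⟩ := (hloc P).torus
    exact ⟨n, hn, hodd, fun x hx hx1 y hy hy1 => h x ((hloc P).mem_Om.1 hx).1
      ((hloc P).mem_Om.1 hx).2 hx1 y ((hloc P).mem_Om.1 hy).1 ((hloc P).mem_Om.1 hy).2 hy1⟩
  have hnab : ¬ IsMulCommutative L := by
    intro hc
    obtain ⟨P⟩ : Nonempty (Sylow 2 L) := inferInstance
    obtain ⟨n, -, -, hn⟩ := htorus P
    have hsub : ∀ x ∈ Om P, x ≠ 1 → ∀ y ∈ Om P, y ≠ 1 → x = y := fun x hx hx1 y hy hy1 => by
      obtain ⟨k, hk⟩ := hn x hx hx1 y hy hy1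
      rw [← hk, mul_comm' (n ^ k) x]
      group
    have h4 := hfour P
    have h2 : Nat.card ↥(Om P) ≤ Nat.card Bool := by
      classical
      refine Nat.card_le_card_of_injective (fun x => decide ((x : L) = 1)) fun a b hab => ?_
      simp only [decide_eq_decide] at hab
      refine Subtype.ext ?_
      by_cases ha : (a : L) = 1
      · rw [ha, hab.1 ha]
      · exact hsub a a.2 ha b b.2 fun hb => ha (hab.2 hb)
    rw [show Nat.card Bool = 2 by simp] at h2
    omega
  have hZ := FTClassSize.center_eq_bot_of_simple hnab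
  have hinv : ∀ (P : Sylow 2 L) (u : L), orderOf u = 2 → ∃ g : L,
      (g * u * g⁻¹ ∈ (P : Subgroup L) ∧ g * u * g⁻¹ * (g * u * g⁻¹) = 1) ∧ g * u * g⁻¹ ≠ 1 :=
    fun P u hu => by
      obtain ⟨g, hg, hg1⟩ := exists_conj_mem P hu
      exact ⟨g, (hloc P).mem_Om.1 hg, hg1⟩
  exact
  { simple := hS
    nonabelian := hnab
    omega_elementary := fun P => PGroups.elemAb_mk
      (fun a ha b hb => hcomm P a ha b (Om_le P hb))
      (fun a ha => by rw [pow_two]; exact ((hloc P).mem_Om.1 ha).2)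
    omega_central := hcomm
    four_le := hfour
    conj := fun u v hu hv => by
      obtain ⟨P⟩ : Nonempty (Sylow 2 L) := inferInstance
      obtain ⟨n, -, -, hn⟩ := htorus P
      exact conj_of_torus P hn u v hu hv
    torus := htorus
    solvable := fun _ u hu => by
      obtain ⟨P⟩ : Nonempty (Sylow 2 L) := inferInstance
      obtain ⟨g, ⟨hg, hg2⟩, hg1⟩ := hinv P u hu
      haveI := (hloc P).solvable _ hg hg2 hg1
      refine Group.isSolvable_of_isSolvable_injective
        (f := ((MulAut.conj g).toMonoidHom.comp (centralizer ({u} : Set L)).subtype).codRestrict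
          (centralizer ({g * u * g⁻¹} : Set L)) fun x => ?_)
        fun a b hab => Subtype.ext ((MulAut.conj g).injective (congrArg Subtype.val hab))
      refine mem_centralizer_singleton_iff.2 ?_
      show g * (x : L) * g⁻¹ * (g * u * g⁻¹) = g * u * g⁻¹ * (g * (x : L) * g⁻¹)
      calc g * (x : L) * g⁻¹ * (g * u * g⁻¹) = g * ((x : L) * u) * g⁻¹ := by group
        _ = g * (u * (x : L)) * g⁻¹ := by rw [mem_centralizer_singleton_iff.1 x.2]
        _ = _ := by group
    core := fun _ u hu => BenderLocal.core_eq_bot hloc hu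
    aut := fun u hu α hodd hfix => by
      obtain ⟨P⟩ : Nonempty (Sylow 2 L) := inferInstance
      obtain ⟨g, ⟨hg, hg2⟩, hg1⟩ := hinv P u hu
      let β : MulAut L := MulAut.conj g * α * (MulAut.conj g)⁻¹
      have hβ : ∀ y : L, y * (g * u * g⁻¹) = g * u * g⁻¹ * y → β y = y := fun y hy => by
        have h1 : α (g⁻¹ * y * g) = g⁻¹ * y * g := hfix _ (by
          calc g⁻¹ * y * g * u = g⁻¹ * (y * (g * u * g⁻¹)) * g := by group
            _ = g⁻¹ * (g * u * g⁻¹ * y) * g := by rw [hy]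
            _ = u * (g⁻¹ * y * g) := by group)
        show g * α ((MulAut.conj g).symm y) * g⁻¹ = y
        rw [MulAut.conj_symm_apply, h1]
        group
      have hPfix : ∀ y ∈ (P : Subgroup L), β y = y := fun y hy =>
        hβ y ((hloc P).central _ hg hg2 y hy).symm
      obtain ⟨p, hp, hpβ⟩ := (hloc P).fixes β (fun z hz _ => hPfix z hz)
        (fun y hy => by rw [hPfix y hy]; exact ⟨hy, by group⟩)
      have hord : orderOf p = orderOf β :=
        orderOf_eq_of_conj hZ fun y => by rw [hpβ, MulAut.conj_apply]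
      have hord' : orderOf β = orderOf α :=
        (MulAut.conj (MulAut.conj g : MulAut L)).orderOf_eq α
      obtain ⟨j, hj⟩ := IsPGroup.iff_orderOf.1 P.2 ⟨p, hp⟩
      rw [Subgroup.orderOf_mk, hord, hord'] at hj
      rw [hj] at hodd
      rcases j with _ | j
      · rwa [pow_zero, orderOf_eq_one_iff] at hj
      · exact absurd hodd (Nat.not_odd_iff_even.2 ((Nat.even_pow.2 ⟨even_two, by omega⟩)))
    split := fun P α _ hfix hmod => by
      obtain ⟨g, hg, hgα⟩ := (hloc P).fixes α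
        (fun z hz h2 => hfix z (mem_Om_of_sq hz h2)) (fun x hx => by
          obtain ⟨h1, h2⟩ := (hloc P).mem_Om.1 (hmod x hx)
          exact ⟨by have := mul_mem hx h1; rwa [mul_inv_cancel_left] at this, h2⟩)
      exact ⟨g, hg, fun x => by rw [hgα, MulAut.conj_apply]⟩
    full := hfull
    cover := hcover
    cover_small := hsmall }

end Cfsg.Agent.Lib.Goldschmidt53
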